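import Cfsg.Agent.H442.RC.ExDef
import Cfsg.Agent.H746.BRigid

/-!
# S3510, triality of type (ii), box SN: exact automorphisms of the Okubo product are inner in `3 × 3` matrices (helper237)
-/

set_option autoImplicit false

namespace Cfsg.Agent.H237.RC.SN

open Module QuadraticMap Cfsg.Agent.LieClassical.OrthCore Cfsg.Agent.LieClassical.OrthTrans
  Cfsg.Agent.LieClassical.OrthSimple Cfsg.Agent.ClassicalGeometry.OrthAut1
  Cfsg.Agent.ClassicalGeometry.OrthSemi Cfsg.Agent.H198.Classes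
  Cfsg.Agent.LieClassical.QuadForms Cfsg.Agent.H198.ClassesPlus
  Cfsg.Agent.ClassicalGeometry.TrialityOct Cfsg.Agent.ClassicalGeometry.Triality
  Cfsg.Agent.ClassicalGeometry.TrialitySpaces Cfsg.Agent.H198.TriBase Cfsg.Agent.H198.TriAut
  Cfsg.Agent.H206.Balance Cfsg.Agent.H198.BalVar Cfsg.Agent.H198.TriDia Cfsg.Agent.H198.TriSpec
  Cfsg.Agent.H198.TriPhi Cfsg.Agent.H442.RC.TriB Matrix

universe u v

section iso

variable {F : Type u} [Field F]

/-- an exact automorphism is an isometry -/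
theorem Ex.form {g : V8 F ≃ₗ[F] V8 F} (hg : Ex g) (u : V8 F) : plusForm 4 F (g u) = plusForm 4 F u := by
  have hw : (fun _ => 1 : V8 F) ≠ 0 := fun h => one_ne_zero (congrFun h (.inl 0))
  set z : V8 F := fun _ => 1 with hz
  have h1 : g (dia (tauB F) (dia (tauB F) u z) u) = plusForm 4 F u • g z := by
    rw [dia_dia, map_smul]
  rw [hg, hg, dia_dia] at h1
  have h2 : (plusForm 4 F (g u) - plusForm 4 F u) • g z = 0 := by
    rw [sub_smul, h1, sub_self]
  rcases smul_eq_zero.1 h2 with h3 | h3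
  · exact sub_eq_zero.1 h3
  · exact absurd ((map_eq_zero_iff g g.injective).1 h3) hw

theorem Ex.polar {g : V8 F ≃ₗ[F] V8 F} (hg : Ex g) (u w : V8 F) :
    QuadraticMap.polar (plusForm 4 F) (g u) (g w) = QuadraticMap.polar (plusForm 4 F) u w := by
  unfold QuadraticMap.polar
  rw [← map_add, Ex.form hg, Ex.form hg, Ex.form hg]

end iso

section ext

variable {F : Type u} [Field F] {E : Type v} [Field E]

/-- base change of a linear map -/
noncomputable def bc (i : F →+* E) (g : V8 F ≃ₗ[F] V8 F) : V8 E →ₗ[E] V8 E :=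
  Matrix.toLin' ((LinearMap.toMatrix' (g : V8 F →ₗ[F] V8 F)).map i)

theorem bc_apply (i : F →+* E) (g : V8 F ≃ₗ[F] V8 F) (z : V8 F) : bc i g (i ∘ z) = i ∘ (g z) := by
  funext k
  have h := RingHom.map_mulVec i (LinearMap.toMatrix' (g : V8 F →ₗ[F] V8 F)) z k
  rw [bc, Matrix.toLin'_apply, ← h]
  have h2 : LinearMap.toMatrix' (g : V8 F →ₗ[F] V8 F) *ᵥ z = g z := by
    rw [← Matrix.toLin'_apply, Matrix.toLin'_toMatrix']
    rfl
  rw [h2]
  rfl

theorem Phi_comp (i : F →+* E) (w : E) (z : V8 F) : Phi (RingHom.id E) w (i ∘ z) = Phi i w z := rfl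

/-- all matrices are `Phi x + t` -/
noncomputable def psi (w : E) : (V8 E × E) →ₗ[E] Matrix (Fin 3) (Fin 3) E where
  toFun a := Phi (RingHom.id E) w a.1 + a.2 • (1 : Matrix (Fin 3) (Fin 3) E)
  map_add' a b := by
    rw [Prod.fst_add, Prod.snd_add, Phi_add, add_smul]
    abel
  map_smul' c a := by
    rw [Prod.smul_fst, Prod.smul_snd, Phi_smul, RingHom.id_apply, smul_add, smul_smul, smul_eq_mul]

theorem psi_apply (w : E) (x : V8 E) (t : E) :
    psi w (x, t) = Phi (RingHom.id E) w x + t • (1 : Matrix (Fin 3) (Fin 3) E) := rfl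

theorem psi_bij {w : E} (hw : w ^ 2 + w + 1 = 0) (h3 : (3 : E) ≠ 0) : Function.Bijective (psi w) := by
  constructor
  · rw [← LinearMap.ker_eq_bot, LinearMap.ker_eq_bot']
    rintro ⟨x, t⟩ h
    rw [psi_apply] at h
    have h1 : trace (Phi (RingHom.id E) w x + t • (1 : Matrix (Fin 3) (Fin 3) E)) = 0 := by rw [h, trace_zero]
    rw [trace_add, trace_Phi _ hw, trace_smul, trace_one, zero_add, smul_eq_mul, Fintype.card_fin] at h1
    have h2 : t = 0 := (mul_eq_zero.1 h1).resolve_right (by exact_mod_cast h3)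
    rw [h2, zero_smul, add_zero] at h
    have h4 : x = 0 := by
      apply Phi_injective (RingHom.id E) hw h3
      rw [h, Phi_zero]
    rw [h2, h4]
    rfl
  · intro M
    obtain ⟨x, hx⟩ := H746.BRigid.exists_Phi_id hw h3 (M := M - (trace M / 3) • (1 : Matrix (Fin 3) (Fin 3) E)) (by
      simp only [Matrix.sub_apply, Matrix.smul_apply, Matrix.one_apply_eq, smul_eq_mul, mul_one, trace_fin_three]
      field_simp
      ring)
    exact ⟨(x, trace M / 3), by rw [psi_apply, hx, sub_add_cancel]⟩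

/-- the linear extension of an exact automorphism to the matrices -/
noncomputable def ex (i : F →+* E) {w : E} (hw : w ^ 2 + w + 1 = 0) (h3 : (3 : E) ≠ 0) (g : V8 F ≃ₗ[F] V8 F) :
    Matrix (Fin 3) (Fin 3) E →ₗ[E] Matrix (Fin 3) (Fin 3) E :=
  (psi w).comp (((bc i g).prodMap LinearMap.id).comp
    ((LinearEquiv.ofBijective (psi w) (psi_bij hw h3)).symm : Matrix (Fin 3) (Fin 3) E →ₗ[E] (V8 E × E)))

theorem ex_psi (i : F →+* E) {w : E} (hw : w ^ 2 + w + 1 = 0) (h3 : (3 : E) ≠ 0) (g : V8 F ≃ₗ[F] V8 F)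
    (x : V8 E) (t : E) : ex i hw h3 g (psi w (x, t)) = psi w (bc i g x, t) := by
  have h : (LinearEquiv.ofBijective (psi w) (psi_bij hw h3)).symm (psi w (x, t)) = (x, t) :=
    (LinearEquiv.ofBijective (psi w) (psi_bij hw h3)).symm_apply_apply (x, t)
  change psi w (((bc i g).prodMap LinearMap.id) ((LinearEquiv.ofBijective (psi w) (psi_bij hw h3)).symm (psi w (x, t)))) = _
  rw [h]
  rfl

theorem ex_one (i : F →+* E) {w : E} (hw : w ^ 2 + w + 1 = 0) (h3 : (3 : E) ≠ 0) (g : V8 F ≃ₗ[F] V8 F) :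
    ex i hw h3 g 1 = 1 := by
  have h := ex_psi i hw h3 g 0 1
  rw [psi_apply, psi_apply, map_zero, Phi_zero, zero_add, one_smul] at h
  exact h

theorem ex_Phi (i : F →+* E) {w : E} (hw : w ^ 2 + w + 1 = 0) (h3 : (3 : E) ≠ 0) (g : V8 F ≃ₗ[F] V8 F)
    (z : V8 F) : ex i hw h3 g (Phi i w z) = Phi i w (g z) := by
  have h := ex_psi i hw h3 g (i ∘ z) 0
  rw [psi_apply, psi_apply, bc_apply, Phi_comp, Phi_comp, zero_smul, add_zero, add_zero] at h
  exact h

/-- the product of two values of `Phi` -/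
theorem Phi_mul (i : F →+* E) {w : E} (hw : w ^ 2 + w + 1 = 0) (h3 : (3 : E) ≠ 0) (x y : V8 F) :
    (w ^ 2 - w) • (Phi i w x * Phi i w y) = w • Phi i w (dia (tauB F) x y) + w ^ 2 • Phi i w (dia (tauB F) y x) +
      ((w - w ^ 2) / 3 * i (QuadraticMap.polar (plusForm 4 F) x y)) • (1 : Matrix (Fin 3) (Fin 3) E) := by
  rw [Phi_dia i hw h3, Phi_dia i hw h3, trace_mul_comm (Phi i w y), trace_Phi_mul i hw h3]
  set X := Phi i w x
  set Y := Phi i w y
  set b := i (QuadraticMap.polar (plusForm 4 F) x y)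
  have e1 : w • (w • (X * Y) - w ^ 2 • (Y * X) - ((w - w ^ 2) / 3 * -b) • (1 : Matrix (Fin 3) (Fin 3) E)) +
      w ^ 2 • (w • (Y * X) - w ^ 2 • (X * Y) - ((w - w ^ 2) / 3 * -b) • (1 : Matrix (Fin 3) (Fin 3) E)) +
      ((w - w ^ 2) / 3 * b) • (1 : Matrix (Fin 3) (Fin 3) E) = (w ^ 2 - w ^ 4) • (X * Y) +
      ((w ^ 2 + w + 1) * ((w - w ^ 2) / 3 * b)) • (1 : Matrix (Fin 3) (Fin 3) E) := by
    module
  have e2 : w ^ 2 - w ^ 4 = w ^ 2 - w := by linear_combination (w - w ^ 2) * hw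
  rw [e1, hw, zero_mul, zero_smul, add_zero, e2]

theorem ex_mul_Phi (i : F →+* E) {w : E} (hw : w ^ 2 + w + 1 = 0) (h3 : (3 : E) ≠ 0) {g : V8 F ≃ₗ[F] V8 F}
    (hg : Ex g) (x y : V8 F) : ex i hw h3 g (Phi i w x * Phi i w y) =
      ex i hw h3 g (Phi i w x) * ex i hw h3 g (Phi i w y) := by
  have hθ : w ^ 2 - w ≠ 0 := fun h => theta_ne hw h3 (by linear_combination -h)
  have h1 := congrArg (ex i hw h3 g) (Phi_mul i hw h3 x y)
  rw [map_smul, map_add, map_add, map_smul, map_smul, map_smul, ex_one, ex_Phi, ex_Phi, hg, hg,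
    ← Ex.polar hg x y, ← Phi_mul i hw h3] at h1
  rw [ex_Phi, ex_Phi]
  exact smul_right_injective _ hθ h1

/-- the matrices `Phi (b k)` and `1` span -/
theorem psi_sum (i : F →+* E) (w : E) (x : V8 E) (t : E) :
    psi w (x, t) = ∑ k, x k • Phi i w (Pi.single k 1) + t • (1 : Matrix (Fin 3) (Fin 3) E) := by
  rw [psi_apply]
  congr 1
  have h1 : x = ∑ k, x k • (i ∘ (Pi.single k 1 : V8 F)) := by
    funext l
    rw [Finset.sum_apply, Finset.sum_eq_single l]
    · rw [Pi.smul_apply, Function.comp_apply, Pi.single_eq_same, map_one, smul_eq_mul, mul_one]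
    · intro k _ hk
      rw [Pi.smul_apply, Function.comp_apply, Pi.single_eq_of_ne (Ne.symm hk), map_zero, smul_zero]
    · intro h; exact absurd (Finset.mem_univ _) h
  have h2 : ∀ (s : Finset (Fin 4 ⊕ Fin 4)) (f : Fin 4 ⊕ Fin 4 → V8 E),
      Phi (RingHom.id E) w (∑ k ∈ s, f k) = ∑ k ∈ s, Phi (RingHom.id E) w (f k) := by
    intro s f
    classical
    induction s using Finset.induction_on with
    | empty => rw [Finset.sum_empty, Finset.sum_empty, Phi_zero]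
    | insert a s ha ih => rw [Finset.sum_insert ha, Finset.sum_insert ha, Phi_add, ih]
  conv_lhs => rw [h1]
  rw [h2]
  exact Finset.sum_congr rfl fun k _ => by rw [Phi_smul, RingHom.id_apply, Phi_comp]

theorem ex_mul (i : F →+* E) {w : E} (hw : w ^ 2 + w + 1 = 0) (h3 : (3 : E) ≠ 0) {g : V8 F ≃ₗ[F] V8 F}
    (hg : Ex g) (A B : Matrix (Fin 3) (Fin 3) E) : ex i hw h3 g (A * B) = ex i hw h3 g A * ex i hw h3 g B := by
  obtain ⟨⟨x, s⟩, rfl⟩ := (psi_bij hw h3).2 A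
  obtain ⟨⟨y, t⟩, rfl⟩ := (psi_bij hw h3).2 B
  rw [psi_sum i, psi_sum i]
  simp only [add_mul, mul_add, Finset.sum_mul, Finset.mul_sum, map_add, map_sum, smul_mul_assoc, mul_smul_comm,
    map_smul, one_mul, mul_one, ex_one, ex_mul_Phi i hw h3 hg]

/-- Skolem-Noether for the exact automorphisms of the Okubo product. -/
theorem exists_conj (i : F →+* E) {w : E} (hw : w ^ 2 + w + 1 = 0)
    (h3 : (3 : E) ≠ 0) {g : V8 F ≃ₗ[F] V8 F} (hg : Ex g) :
    ∃ P P' : Matrix (Fin 3) (Fin 3) E, P * P' = 1 ∧ P' * P = 1 ∧ ∀ z, Phi i w (g z) = P * Phi i w z * P' := by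
  let φ : Matrix (Fin 3) (Fin 3) E →ₐ[E] Matrix (Fin 3) (Fin 3) E :=
    AlgHom.ofLinearMap (ex i hw h3 g) (ex_one i hw h3 g) (ex_mul i hw h3 hg)
  have hinj : Function.Injective φ := φ.toRingHom.injective
  have hsur : Function.Surjective φ := (LinearMap.injective_iff_surjective (f := φ.toLinearMap)).1 hinj
  let Ψ : Matrix (Fin 3) (Fin 3) E ≃ₐ[E] Matrix (Fin 3) (Fin 3) E := AlgEquiv.ofBijective φ ⟨hinj, hsur⟩
  let f : Module.End E (Fin 3 → E) ≃ₐ[E] Module.End E (Fin 3 → E) :=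
    (Matrix.toLinAlgEquiv' (R := E) (n := Fin 3)).symm.trans (Ψ.trans (Matrix.toLinAlgEquiv' (R := E) (n := Fin 3)))
  obtain ⟨T, hT⟩ := AlgEquiv.eq_linearEquivConjAlgEquiv f
  let M : Matrix (Fin 3) (Fin 3) E := LinearMap.toMatrix' (T : (Fin 3 → E) →ₗ[E] (Fin 3 → E))
  let N : Matrix (Fin 3) (Fin 3) E := LinearMap.toMatrix' (T.symm : (Fin 3 → E) →ₗ[E] (Fin 3 → E))
  have hNM : N * M = 1 := by
    rw [← LinearMap.toMatrix'_comp, LinearEquiv.symm_comp, LinearMap.toMatrix'_id]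
  have hMN : M * N = 1 := by
    rw [← LinearMap.toMatrix'_comp, LinearEquiv.comp_symm, LinearMap.toMatrix'_id]
  refine ⟨M, N, hMN, hNM, fun z => ?_⟩
  have h1 : ∀ A, Ψ A = M * A * N := by
    intro A
    have h2 := DFunLike.congr_fun hT (Matrix.toLinAlgEquiv' A)
    have h3 : f (Matrix.toLinAlgEquiv' A) = Matrix.toLinAlgEquiv' (Ψ A) := by
      change Matrix.toLinAlgEquiv' (Ψ ((Matrix.toLinAlgEquiv').symm (Matrix.toLinAlgEquiv' A))) = _
      rw [AlgEquiv.symm_apply_apply]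
    rw [h3] at h2
    have h4 : Ψ A = LinearMap.toMatrix' (Matrix.toLinAlgEquiv' (Ψ A)) := by
      exact (LinearMap.toMatrix'_toLin' (Ψ A)).symm
    rw [h4, h2]
    have h5 : T.conjAlgEquiv E (Matrix.toLinAlgEquiv' A) =
        (T : (Fin 3 → E) →ₗ[E] (Fin 3 → E)) ∘ₗ (Matrix.toLin' A) ∘ₗ (T.symm : (Fin 3 → E) →ₗ[E] (Fin 3 → E)) := rfl
    rw [h5, LinearMap.toMatrix'_comp, LinearMap.toMatrix'_comp, LinearMap.toMatrix'_toLin', Matrix.mul_assoc]
  rw [← h1]
  exact (ex_Phi i hw h3 g z).symm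

end ext

end Cfsg.Agent.H237.RC.SN
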