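import Cfsg.Agent.H93.RC.Defs
import Cfsg.Agent.H106.RC.Use

/-!
# S3510, orthogonal rows, even part, box E0: the norm form of a linear lift
-/

set_option autoImplicit false
open Cfsg

namespace Cfsg.Agent.H237.RC

open QuadraticMap MulAction
open Cfsg.Agent.LieClassical.OrthCore Cfsg.Agent.LieClassical.OrthTrans
open Cfsg.Agent.LieClassical.OrthSimple Cfsg.Agent.ClassicalGeometry.OrthSemi
open Cfsg.Agent.ClassicalGeometry.OrthAut1 Cfsg.Agent.H106.RC Cfsg.Agent.H93.RC

variable {F V : Type*} [Field F] [AddCommGroup V] [Module F V] {Q : QuadraticForm F V}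

/-- a linear semisimilitude as a linear equivalence -/
def linOf (M : Gam Q) (hM : IsLin M) : V ≃ₗ[F] V where
  toFun := M.1
  invFun := M.1.symm
  map_add' := add_of_mem M.2
  map_smul' := hM
  left_inv := M.1.symm_apply_apply
  right_inv := M.1.apply_symm_apply

theorem linOf_apply (M : Gam Q) (hM : IsLin M) (v : V) : linOf M hM v = M.1 v := rfl

theorem linOf_pow_apply (M : Gam Q) (hM : IsLin M) (n : ℕ) (v : V) :
    (linOf M hM ^ n) v = (M ^ n).1 v := by
  induction n generalizing v with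
  | zero => rfl
  | succ n ih =>
    rw [pow_succ, pow_succ]
    show (linOf M hM ^ n) (linOf M hM v) = (M ^ n).1 (M.1 v)
    rw [ih, linOf_apply]

/-- the multiplier of a linear semisimilitude -/
theorem exists_mult (hG : Good Q) (M : Gam Q) (hM : IsLin M) :
    ∃ c : F, c ≠ 0 ∧ ∀ v, Q (M.1 v) = c * Q v := by
  obtain ⟨σ, c, h⟩ := M.2
  refine ⟨c, h.ne, fun v => ?_⟩
  obtain ⟨x, hx0, hx⟩ := hG.sing
  have hσ : ∀ a : F, σ a = a := by
    intro a
    have h1 := h.smul a x
    rw [hM a x] at h1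
    have h2 : M.1 x ≠ 0 := by
      intro h0
      rw [← h.map_zero] at h0
      exact hx0 (M.1.injective h0)
    exact (smul_left_injective F h2 h1).symm
  rw [h.form, hσ]

theorem Q_pow {M : Gam Q} {c : F} (hc : ∀ v, Q (M.1 v) = c * Q v) (n : ℕ) (v : V) :
    Q ((M ^ n).1 v) = c ^ n * Q v := by
  induction n generalizing v with
  | zero => rw [pow_zero, pow_zero, one_mul]; rfl
  | succ n ih =>
    rw [pow_succ]
    show Q ((M ^ n).1 (M.1 v)) = _
    rw [ih, hc, pow_succ, mul_assoc]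

theorem exists_ns (hG : Good Q) : ∃ v : V, Q v ≠ 0 := by
  obtain ⟨x, y, h⟩ := hG.exists_hyp
  refine ⟨x + y, ?_⟩
  rw [Q_add, h.left, h.right, h.pair, zero_add, zero_add]
  exact one_ne_zero

/-- division by a scalar `a` with `a² = c` and `a ^ r = μ` -/
theorem of_root (M : Gam Q) (hM : IsLin M) {c a μ : F} {r : ℕ}
    (hc : ∀ v, Q (M.1 v) = c * Q v) (hμ : ∀ v, (M ^ r).1 v = μ • v) (ha : a ≠ 0)
    (h2 : a * a = c) (hr : a ^ r = μ) :
    ∃ (T : V ≃ₗ[F] V) (a : F), T ∈ O Q ∧ T ^ r = 1 ∧ a ≠ 0 ∧ ∀ v, M.1 v = a • T v := by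
  let s : V ≃ₗ[F] V := LinearEquiv.smulOfNeZero F V a⁻¹ (inv_ne_zero ha)
  have hs : ∀ v, s v = a⁻¹ • v := fun v => rfl
  let T : V ≃ₗ[F] V := s * linOf M hM
  have hT : ∀ v, T v = a⁻¹ • M.1 v := fun v => rfl
  have hTn : ∀ (n : ℕ) (v : V), (T ^ n) v = (a⁻¹) ^ n • (M ^ n).1 v := by
    intro n
    induction n with
    | zero => intro v; rw [pow_zero, pow_zero, one_smul]; rfl
    | succ n ih =>
      intro v
      rw [pow_succ]
      show (T ^ n) (T v) = _
      rw [ih, hT]
      have h3 : (M ^ n).1 (a⁻¹ • M.1 v) = a⁻¹ • (M ^ (n + 1)).1 v := by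
        rw [← linOf_pow_apply M hM, map_smul, linOf_pow_apply M hM, pow_succ]
        rfl
      rw [h3, smul_smul, ← pow_succ]
  refine ⟨T, a, ?_, ?_, ha, ?_⟩
  · intro v
    rw [hT, QuadraticMap.map_smul, hc, ← h2, smul_eq_mul]
    field_simp
  · ext v
    rw [hTn, hμ, smul_smul, ← hr, inv_pow, inv_mul_cancel₀ (pow_ne_zero r ha), one_smul]
    rfl
  · intro v
    rw [hT, smul_smul, mul_inv_cancel₀ ha, one_smul]

/-- BOX E0 (norm form of a linear lift, `n` even). -/
theorem box_E0 {F V : Type*} [Field F] [Finite F] [AddCommGroup V] [Module F V]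
    {Q : QuadraticForm F V}
    (hG : Good Q) {p : ℕ} [CharP F p] (M : Gam Q) (hM : IsLin M) {r : ℕ} (hr : r.Prime)
    (hpow : IsScal (M ^ r)) :
    (∃ (T : V ≃ₗ[F] V) (a : F), T ∈ O Q ∧ T ^ r = 1 ∧ a ≠ 0 ∧ ∀ v, M.1 v = a • T v) ∨
    (r = 2 ∧ p ≠ 2 ∧ ∃ c : F, c ≠ 0 ∧ (∀ v, M.1 (M.1 v) = c • v) ∧
      ((∀ v, Q (M.1 v) = -c * Q v) ∨ ((∀ v, Q (M.1 v) = c * Q v) ∧ ¬ IsSquare c))) := by
  obtain ⟨c, hc0, hc⟩ := exists_mult hG M hM
  obtain ⟨μ, hμ0, hμ⟩ := hpow
  obtain ⟨v, hv⟩ := exists_ns hG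
  have h1 : c ^ r = μ ^ 2 := by
    have h2 := Q_pow hc r v
    rw [hμ, QuadraticMap.map_smul, smul_eq_mul] at h2
    have h3 := mul_right_cancel₀ hv h2
    rw [pow_two]
    exact h3.symm
  rcases hr.eq_two_or_odd' with h2 | ⟨k, hk⟩
  · subst h2
    have hμ2 : ∀ v, M.1 (M.1 v) = μ • v := by
      intro v
      rw [← hμ v, pow_two]
      rfl
    have h3 : (c - μ) * (c + μ) = 0 := by linear_combination h1
    rcases mul_eq_zero.1 h3 with h4 | h4
    · have h5 : c = μ := by linear_combination h4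
      by_cases hsq : IsSquare μ
      · obtain ⟨a, ha⟩ := hsq
        have ha0 : a ≠ 0 := by
          rintro rfl
          exact hμ0 (by rw [ha, mul_zero])
        exact Or.inl (of_root M hM hc hμ ha0 (by rw [h5, ha]) (by rw [pow_two, ha]))
      · refine Or.inr ⟨rfl, ?_, μ, hμ0, hμ2, Or.inr ⟨?_, hsq⟩⟩
        · rintro rfl
          exact hsq (FiniteField.isSquare_of_char_two (CharP.ringChar_of_prime_eq_zero
            Nat.prime_two (by
              have := CharP.cast_eq_zero F 2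
              exact this)) μ)
        · intro v
          rw [hc, h5]
    · have h5 : c = -μ := by linear_combination h4
      by_cases hp : p = 2
      · subst hp
        have hneg : c = μ := by
          rw [h5]
          exact CharTwo.neg_eq μ
        obtain ⟨a, ha⟩ : IsSquare μ := FiniteField.isSquare_of_char_two
          (CharP.ringChar_of_prime_eq_zero Nat.prime_two (by
            have := CharP.cast_eq_zero F 2
            exact this)) μ
        have ha0 : a ≠ 0 := by
          rintro rfl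
          exact hμ0 (by rw [ha, mul_zero])
        exact Or.inl (of_root M hM hc hμ ha0 (by rw [hneg, ha]) (by rw [pow_two, ha]))
      · refine Or.inr ⟨rfl, hp, μ, hμ0, hμ2, Or.inl ?_⟩
        intro v
        rw [hc, h5]
  · left
    have hck : c ^ k ≠ 0 := pow_ne_zero k hc0
    have e1 : μ / c ^ k * (μ / c ^ k) = c := by
      rw [div_mul_div_comm, div_eq_iff (mul_ne_zero hck hck), ← pow_two, ← h1, hk, pow_succ,
        pow_mul]
      ring
    refine of_root M hM hc hμ (a := μ / c ^ k) (div_ne_zero hμ0 hck) e1 ?_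
    have e2 : (μ / c ^ k) ^ r = (μ / c ^ k * (μ / c ^ k)) ^ k * (μ / c ^ k) := by
      rw [hk, pow_succ, pow_mul, pow_two]
    rw [e2, e1]
    field_simp

end Cfsg.Agent.H237.RC
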