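import Cfsg.Agent.H566.RC.TriFrame
import Cfsg.Agent.H752.SemiNormal

/-!
# S3510, triality type (i), box iD: definitions
-/

set_option autoImplicit false
open Cfsg

namespace Cfsg.Agent.H237.RC.ID

open Module QuadraticMap Cfsg.Agent.LieClassical.OrthCore Cfsg.Agent.LieClassical.OrthTrans
  Cfsg.Agent.ClassicalGeometry.OrthSemi Cfsg.Agent.LieClassical.QuadForms
  Cfsg.Agent.ClassicalGeometry.TrialityOct Cfsg.Agent.ClassicalGeometry.Triality
  Cfsg.Agent.H198.TriBase Cfsg.Agent.H752.SemiNormal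

/-- the quaternion subalgebra `⟨l₀, r₀, l₁, r₁⟩` -/
def H0 (F : Type*) [Field F] : Submodule F (V8 F) where
  carrier := {x | x (.inl 2) = 0 ∧ x (.inl 3) = 0 ∧ x (.inr 2) = 0 ∧ x (.inr 3) = 0}
  add_mem' := by
    rintro x y ⟨h1, h2, h3, h4⟩ ⟨k1, k2, k3, k4⟩
    exact ⟨by rw [Pi.add_apply, h1, k1, add_zero], by rw [Pi.add_apply, h2, k2, add_zero],
      by rw [Pi.add_apply, h3, k3, add_zero], by rw [Pi.add_apply, h4, k4, add_zero]⟩
  zero_mem' := ⟨rfl, rfl, rfl, rfl⟩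
  smul_mem' := by
    rintro c x ⟨h1, h2, h3, h4⟩
    exact ⟨by rw [Pi.smul_apply, h1, smul_zero], by rw [Pi.smul_apply, h2, smul_zero],
      by rw [Pi.smul_apply, h3, smul_zero], by rw [Pi.smul_apply, h4, smul_zero]⟩

end Cfsg.Agent.H237.RC.ID
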