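import Cfsg.Agent.H237.RC.IDEl
import Cfsg.Agent.H297.RC.LR

/-!
# S3510, triality type (i), box iD: the chain in normal form
-/

set_option autoImplicit false
open Cfsg

namespace Cfsg.Agent.H237.RC.ID

open Module QuadraticMap MulAction Cfsg.Agent.LieClassical.OrthCore Cfsg.Agent.LieClassical.OrthTrans
  Cfsg.Agent.LieClassical.OrthSimple Cfsg.Agent.ClassicalGeometry.OrthAut1
  Cfsg.Agent.ClassicalGeometry.OrthSemi Cfsg.Agent.LieClassical.QuadForms
  Cfsg.Agent.ClassicalGeometry.TrialityOct Cfsg.Agent.ClassicalGeometry.Triality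
  Cfsg.Agent.H198.TriBase Cfsg.Agent.H198.TriAut Cfsg.Agent.H752.SemiNormal Cfsg.Agent.AutOrth.SemiSim
  Cfsg.Agent.H106.RC Cfsg.Agent.H93.RC Cfsg.Agent.H566.RC

section conj

variable {F : Type*} [Field F] {M U : G8 F}

theorem conjE_apply' (M : G8 F) (t : ↥(E (plusForm 4 F))) (v : V8 F) :
    (conjE _ M t : V8 F ≃ₗ[F] V8 F) (M.1 v) = M.1 ((t : V8 F ≃ₗ[F] V8 F) v) := conjLin_apply' M t.1 v

theorem coe_mul_apply (g h : ↥(E (plusForm 4 F))) (v : V8 F) :
    ((g * h : ↥(E (plusForm 4 F))) : V8 F ≃ₗ[F] V8 F) v = (g : V8 F ≃ₗ[F] V8 F) ((h : V8 F ≃ₗ[F] V8 F) v) := rfl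

theorem coe_inv_apply (g : ↥(E (plusForm 4 F))) (v : V8 F) :
    ((g⁻¹ : ↥(E (plusForm 4 F))) : V8 F ≃ₗ[F] V8 F) ((g : V8 F ≃ₗ[F] V8 F) v) = v :=
  (g : V8 F ≃ₗ[F] V8 F).symm_apply_apply v

/-- `t` commutes with `M` -/
theorem conjE_eq {M : G8 F} {t : ↥(E (plusForm 4 F))}
    (h : ∀ v, M.1 ((t : V8 F ≃ₗ[F] V8 F) v) = (t : V8 F ≃ₗ[F] V8 F) (M.1 v)) : conjE _ M t = t := by
  refine ext_E fun v => ?_
  obtain ⟨v, rfl⟩ := M.1.surjective v
  rw [conjE_apply', h]

theorem conjE_sg {M : G8 F} (h : Au M) {u w : V8 F} (hu : plusForm 4 F u = 0) (hw : polar (plusForm 4 F) u w = 0)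
    (h1 : M.1 u = u) (h2 : M.1 w = w) : conjE _ M (sg _ u w hu hw) = sg _ u w hu hw := by
  refine conjE_eq fun v => ?_
  have e1 : polar (plusForm 4 F) u v = polar (plusForm 4 F) u (M.1 v) := by
    conv_rhs => rw [← h1]
    rw [h.polar]
  have e2 : polar (plusForm 4 F) w v = polar (plusForm 4 F) w (M.1 v) := by
    conv_rhs => rw [← h2]
    rw [h.polar]
  rw [sg_apply, sg_apply, h.lin.sub, h.lin.sub, h.lin.add, h.smul, h.smul, h.smul, h1, h2, e1, e2]

theorem Fx0.conj_Dc (h : Fx0 M) (c : F) : conjE _ M (Dc c) = Dc c :=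
  conjE_sg h.toAu _ _ h.r0 (by rw [h.smul, h.r1])

theorem Fx0.conj_Zc (h : Fx0 M) (c : F) : conjE _ M (Zc c) = Zc c :=
  conjE_sg h.toAu _ _ h.l1 (by rw [h.smul, h.one])

theorem Uu.conj_Zc (h : Uu U) (c : F) : conjE _ U (Zc c) = Zc c :=
  conjE_sg h.toAu _ _ h.l1 (by rw [h.smul, h.one])

theorem Fx0.conj_tor (h : Fx0 M) {s : F} (hs : s ≠ 0) : conjE _ M (tor s) = tor s :=
  conjE_eq fun v => h.tor_comm hs v

theorem Uu.conj_tor (h : Uu U) {s : F} (hs : s ≠ 0) :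
    tor s * conjE _ U (tor s)⁻¹ = ec (s⁻¹ * s⁻¹ - 1) := by
  refine ext_E fun v => ?_
  obtain ⟨w, rfl⟩ := U.1.surjective v
  rw [coe_mul_apply, conjE_apply']
  obtain ⟨v, rfl⟩ := (tor s : V8 F ≃ₗ[F] V8 F).surjective w
  rw [coe_inv_apply, h.tor_comm hs]

theorem Zc_mul (c d : F) : Zc c * Zc d = Zc (c + d) := by
  rw [Zc, Zc, sg_mul q_l1 (p_l1one _) (p_l1one _) (by rw [← add_smul]; exact p_l1one _), Zc]
  exact sg_congr _ _ _ _ rfl (by rw [← add_smul]; congr 1; ring)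

theorem Zc_inv (c : F) : (Zc c)⁻¹ = Zc (-c) := by
  rw [inv_eq_iff_mul_eq_one, Zc_mul, add_neg_cancel, Zc]
  exact (sg_congr _ _ q_l1 (by simp) rfl (by simp)).trans (sg_zero _ _)

theorem Dc_inv (c : F) : (Dc c)⁻¹ = Dc (-c) := by
  rw [inv_eq_iff_mul_eq_one, Dc, Dc, sg_mul q_r0 (p_r01 _) (p_r01 _) (by rw [← add_smul]; exact p_r01 _)]
  exact (sg_congr _ _ q_r0 (by simp) rfl (by rw [← add_smul]; simp)).trans (sg_zero _ _)

theorem tor_Zc {s : F} (hs : s ≠ 0) (c : F) : tor s * Zc c = Zc c * tor s := by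
  refine ext_E fun v => ?_
  rw [coe_mul_apply, coe_mul_apply, tor_apply hs, tor_apply hs, Zc_apply, Zc_apply]
  apply ext8 <;> simp [omul_l0, omul_l1, omul_l2, omul_l3, omul_r0, omul_r1, omul_r2, omul_r3, one8] <;> ring

theorem Dc_ec (c d : F) : Dc c * ec d = ec d * Dc c := by
  refine ext_E fun v => ?_
  rw [coe_mul_apply, coe_mul_apply, Dc_apply, Dc_apply, ec_apply, ec_apply]
  apply ext8 <;> simp

/-- the commutator -/
def La0 (F : Type*) [Field F] : ↥(E (plusForm 4 F)) := Dc 1 * Zc 3 * (Dc 1)⁻¹ * (Zc 3)⁻¹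

theorem La0_apply (v : V8 F) : (La0 F : V8 F ≃ₗ[F] V8 F) v =
    Sum.elim ![4 * v (.inl 0) + 9 * v (.inr 1), 4 * v (.inl 1) - 9 * v (.inr 0), v (.inl 2), v (.inl 3)]
      ![7 * v (.inr 0) - 3 * v (.inl 1), 3 * v (.inl 0) + 7 * v (.inr 1), v (.inr 2), v (.inr 3)] := by
  have h : (La0 F : V8 F ≃ₗ[F] V8 F) v = (Dc (1 : F) : V8 F ≃ₗ[F] V8 F) ((Zc (3 : F) : V8 F ≃ₗ[F] V8 F)
    ((((Dc (1 : F))⁻¹ : ↥(E (plusForm 4 F))) : V8 F ≃ₗ[F] V8 F)
      ((((Zc (3 : F))⁻¹ : ↥(E (plusForm 4 F))) : V8 F ≃ₗ[F] V8 F) v))) := rfl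
  rw [h, Dc_inv, Zc_inv]
  simp only [Dc_apply, Zc_apply]
  apply ext8 <;> simp [omul_l0, omul_l1, omul_l2, omul_l3, omul_r0, omul_r1, omul_r2, omul_r3, one8] <;> ring

/-- the matrix of `La0` on `⟨l₀, r₁⟩` -/
def gm (F : Type*) [Field F] : Matrix (Fin 2) (Fin 2) F := !![4, 9; 3, 7]

theorem La0_pow_apply (m : ℕ) (v : V8 F) :
    (gm F ^ m).mulVec ![v (.inl 0), v (.inr 1)] =
      ![((La0 F ^ m : ↥(E (plusForm 4 F))) : V8 F ≃ₗ[F] V8 F) v (.inl 0),
        ((La0 F ^ m : ↥(E (plusForm 4 F))) : V8 F ≃ₗ[F] V8 F) v (.inr 1)] := by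
  induction m generalizing v with
  | zero =>
    rw [pow_zero, pow_zero, Matrix.one_mulVec]
    rfl
  | succ m ih =>
    rw [pow_succ, pow_succ, coe_mul_apply, ← ih, ← Matrix.mulVec_mulVec]
    congr 1
    rw [La0_apply]
    ext i
    fin_cases i <;> simp [gm, Matrix.mulVec, dotProduct, Fin.sum_univ_two]

theorem La0_not_p {p : ℕ} [Fact p.Prime] [CharP F p] (h3 : (3 : F) ≠ 0) (k : ℕ)
    (h : La0 F ^ p ^ k = 1) : False := by
  have h1 : gm F ^ p ^ k = 1 := by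
    have e : ∀ a b : F, (gm F ^ p ^ k).mulVec ![a, b] = ![a, b] := by
      intro a b
      have := La0_pow_apply (p ^ k) (Sum.elim ![a, 0, 0, 0] ![0, b, 0, 0] : V8 F)
      rw [h] at this
      simpa using this
    have e0 := e 1 0
    have e1 := e 0 1
    ext i j
    have f0 := congrFun e0 i
    have f1 := congrFun e1 i
    simp only [Matrix.mulVec, dotProduct, Fin.sum_univ_two] at f0 f1
    fin_cases j
    · fin_cases i <;> simpa using f0
    · fin_cases i <;> simpa using f1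
  have h2 : (gm F - 1) ^ p ^ k = 0 := by
    rw [sub_pow_char_pow_of_commute (p := p) (h := Commute.one_right (gm F)), h1, one_pow, sub_self]
  have h4 : (gm F - 1).det = 0 := by
    have := congrArg Matrix.det h2
    rw [Matrix.det_pow, Matrix.det_zero] at this
    exact pow_eq_zero_iff (pow_ne_zero _ (Fact.out : p.Prime).ne_zero) |>.1 this
  have h5 : (gm F - 1).det = -(3 * 3) := by
    rw [Matrix.det_fin_two]
    simp [gm]
    norm_num
  rw [h5, neg_eq_zero] at h4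
  exact h3 (mul_self_eq_zero.1 h4)

end conj

section grp

variable {F : Type} [Field F] {G Ω : Type} [Group G] [MulAction G Ω] {N : Subgroup G} {σ : P8 F →* G}

/-- the lifts of elements of `N` -/
theorem conj_of_eq {M : G8 F} {t : ↥(E (plusForm 4 F))} (h : ∀ v, M.1 v = (t : V8 F ≃ₗ[F] V8 F) v) :
    La σ (up σ t) (Psi _ M) := by
  rw [La.lf]
  have h1 : M = tg _ t := Subtype.ext (Equiv.ext h)
  rw [h1]
  exact Lf.tg t

theorem norm_b (F : Type*) [Field F] : plusForm 4 F (one8 F + (1 : F) • bs (.inl 1)) = 1 := by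
  rw [norm8]; simp [one8]

theorem norm_b_ne (F : Type*) [Field F] : plusForm 4 F (one8 F + (1 : F) • bs (.inl 1)) ≠ 0 := by
  rw [norm_b]; exact one_ne_zero

/-- the identities `b ρ(b) = l`, `ρ(b) b = l` -/
theorem bG_mul (a : V8 F) (ha : plusForm 4 F a ≠ 0) (h1 : plusForm 4 F a = 1) :
    bG a ha * (kapG F * lG a ha * kapG F) = lG a ha := by
  apply Subtype.ext
  ext1 x
  change omul (omul a (oconj (omul a (oconj x)))) a = omul a x
  rw [oconj_omul, oconj_oconj]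
  have e : omul (omul a (omul x (oconj a))) a = plusForm 4 F a • omul a x := by coord8
  rw [e, h1, one_smul]

theorem mul_bG (a : V8 F) (ha : plusForm 4 F a ≠ 0) (h1 : plusForm 4 F a = 1) :
    (kapG F * lG a ha * kapG F) * bG a ha = lG a ha := by
  apply Subtype.ext
  ext1 x
  change oconj (omul a (oconj (omul (omul a x) a))) = omul a x
  rw [oconj_omul, oconj_oconj]
  have e : omul (omul (omul a x) a) (oconj a) = plusForm 4 F a • omul a x := by coord8
  rw [e, h1, one_smul]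

/-- **Step 1**: `x₁` is replaced by `Zc 3`. -/
theorem step1 {ι : Type} [DecidableEq ι] [Finite F] (hG : Good (plusForm 4 F)) (hE : Env G Ω N)
    (hσ : Rp (plusForm 4 F) N σ) {x : ι → G} (hc : ∀ i j, x i * x j = x j * x i) (hcov : Cov Ω x) {i₁ : ι}
    (h1 : La σ (x i₁) (rho hG)) (hZ : ∀ j, j ≠ i₁ → up σ (Zc 1) * x j = x j * up σ (Zc 1)) :
    Cov Ω (Function.update x i₁ (up σ (Zc 3))) := by
  set a : V8 F := one8 F + (1 : F) • bs (.inl 1) with ha
  have hn : plusForm 4 F a = 1 := norm_b F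
  have hne : plusForm 4 F a ≠ 0 := norm_b_ne F
  set b := up σ (Zc 1) with hb
  have lb : La σ b (Psi _ (bG a hne)) := conj_of_eq fun v => (Zc_apply 1 v).symm
  have lb1 : La σ (x i₁ * b * (x i₁)⁻¹) (Psi _ (kapG F * lG a hne * kapG F)) := by
    have := (h1.mul lb).mul h1.inv
    rwa [rho_conj hG (tri_bG a hne)] at this
  have lb2 : La σ (x i₁ * (x i₁ * b * (x i₁)⁻¹) * (x i₁)⁻¹) (Psi _ (lG a hne)⁻¹) := by
    have := (h1.mul lb1).mul h1.inv
    rw [rho_conj hG (tri_lG a hne).kap] at this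
    have e : kapG F * (kapG F * (lG a hne)⁻¹ * kapG F) * kapG F = (lG a hne)⁻¹ := by
      calc kapG F * (kapG F * (lG a hne)⁻¹ * kapG F) * kapG F
          = (kapG F * kapG F) * (lG a hne)⁻¹ * (kapG F * kapG F) := by group
        _ = _ := by rw [kapG_mul_kapG, one_mul, mul_one]
    rwa [e] at this
  have hcomm : b * (x i₁ * b * (x i₁)⁻¹) = x i₁ * b * (x i₁)⁻¹ * b := by
    have e1 := lb.mul lb1
    have e2 := lb1.mul lb
    rw [← map_mul, bG_mul a hne hn] at e1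
    rw [← map_mul, mul_bG a hne hn] at e2
    exact La.eq hE hσ e1 e2
  have hthree : b * (x i₁ * b * (x i₁)⁻¹) * (x i₁ * (x i₁ * b * (x i₁)⁻¹) * (x i₁)⁻¹) = 1 := by
    have e1 := (lb.mul lb1).mul lb2
    rw [← map_mul, bG_mul a hne hn, ← map_mul, mul_inv_cancel, map_one] at e1
    exact La.eq hE hσ e1 La.one
  have h3 := mv_cube hcov hZ (hc i₁) rfl hcomm hthree
  have e3 : b ^ 3 = up σ (Zc 3) := by
    rw [hb, ← map_pow, pow_three, Zc_mul, Zc_mul]
    norm_num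
  rwa [e3] at h3

theorem comm_of_fix {y : G} {M : G8 F} (h : Lf (up σ) y M) {t : ↥(E (plusForm 4 F))} (ht : conjE _ M t = t) :
    up σ t * y = y * up σ t := by
  have h1 := h t
  rw [ht, mul_inv_eq_iff_eq_mul] at h1
  exact h1.symm

theorem La0_H1 {v : V8 F} (hv : v ∈ H1 F) (k : ℕ) : ((La0 F ^ k : ↥(E (plusForm 4 F))) : V8 F ≃ₗ[F] V8 F) v = v := by
  induction k with
  | zero => rfl
  | succ k ih =>
    rw [pow_succ, coe_mul_apply]
    have : (La0 F : V8 F ≃ₗ[F] V8 F) v = v := by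
      obtain ⟨h0, h1, k0, k1⟩ := hv
      rw [La0_apply]
      apply ext8 <;> simp [h0, h1, k0, k1]
    rw [this, ih]

theorem mem_span {c : F} (hc : c ≠ 0) {v : V8 F} :
    v ∈ Submodule.span F {(bs (.inr 2) : V8 F), c • bs (.inr 3)} ↔ WR F v := by
  rw [Submodule.mem_span_pair]
  constructor
  · rintro ⟨a, b, rfl⟩
    refine ⟨?_, ?_, ?_, ?_, ?_, ?_⟩ <;> simp
  · rintro ⟨h0, h1, k0, k1, k2, k3⟩
    refine ⟨v (.inr 2), v (.inr 3) * c⁻¹, ?_⟩
    apply ext8 <;> simp [h0, h1, k0, k1, k2, k3]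
    field_simp

theorem La0_order (hG : Good (plusForm 4 F)) (hσ : Rp (plusForm 4 F) N σ) {m : ℕ}
    (h : up σ (La0 F) ^ m = 1) : La0 F ^ m = 1 := by
  rw [← map_pow] at h
  have h1 : La0 F ^ m ∈ (up σ).ker := h
  rw [hσ.rep.ker] at h1
  obtain ⟨c, hc⟩ := center_scalar hG h1
  have h2 := hc (bs (.inl 2))
  rw [La0_H1 ⟨by simp, by simp, by simp, by simp⟩] at h2
  have h3 := congrFun h2 (.inl 2)
  have h4 : c = 1 := by simpa using h3.symm
  refine ext_E fun v => ?_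
  rw [hc, h4, one_smul]
  rfl

/-- **box iD in normal form** -/
theorem box_normal [Finite F] [Finite G] [Nonempty Ω] (hG : Good (plusForm 4 F)) (hE : Env G Ω N)
    (hσ : Rp (plusForm 4 F) N σ) {p : ℕ} [CharP F p] (hp3 : (3 : F) ≠ 0)
    {ι : Type} [Finite ι] [DecidableEq ι] {x : ι → G} {r : ι → ℕ} (hr : ∀ i, (r i).Prime)
    (hx : ∀ i, x i ^ r i = 1) (hx1 : ∀ i, x i ≠ 1) (hc : ∀ i j, x i * x j = x j * x i) (hcov : Cov Ω x)
    {i₁ i₂ : ι} (h12 : i₂ ≠ i₁) (h1 : La σ (x i₁) (rho hG)) {M : ι → G8 F}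
    (hl : ∀ j, j ≠ i₁ → Lf (up σ) (x j) (M j)) (hU : Uu (M i₂))
    (hM : ∀ j, j ≠ i₁ → j ≠ i₂ → Fx0 (M j)) (hrp : ∀ j, j ≠ i₁ → j ≠ i₂ → r j ≠ p)
    {s : F} (hs : s ≠ 0) (hs2 : s * s ≠ 1) : False := by
  have hpf : Fact p.Prime := ⟨CharP.char_is_prime F p⟩
  -- step 1
  have c1 := step1 hG hE hσ hc hcov h1 (fun j hj => comm_of_fix (hl j hj) (by
    by_cases hj2 : j = i₂
    · subst hj2
      exact hU.conj_Zc 1
    · exact (hM j hj hj2).conj_Zc 1))
  -- step 2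
  have c2 := c1.mv_comm i₂ (c := up σ (tor s)) (by
    intro j hj
    by_cases hj1 : j = i₁
    · subst hj1
      rw [Function.update_self, ← map_mul, tor_Zc hs, map_mul]
    · rw [Function.update_of_ne hj1]
      exact comm_of_fix (hl j hj1) ((hM j hj1 hj).conj_tor hs))
  rw [Function.update_of_ne h12] at c2
  have e2 : up σ (tor s) * x i₂ * (up σ (tor s))⁻¹ * (x i₂)⁻¹ = up σ (ec (s⁻¹ * s⁻¹ - 1)) := by
    rw [← hU.conj_tor hs, map_mul, ← hl i₂ h12, map_inv]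
    group
  rw [e2] at c2
  set c0 : F := s⁻¹ * s⁻¹ - 1 with hc0
  have hc0' : c0 ≠ 0 := by
    intro h
    apply hs2
    have : s⁻¹ * s⁻¹ = 1 := by linear_combination h
    have h3 : s * s * (s⁻¹ * s⁻¹) = 1 := by field_simp
    rwa [this, mul_one] at h3
  -- step 3
  have c3 := c2.mv_comm i₁ (c := up σ (Dc 1)) (by
    intro j hj
    by_cases hj2 : j = i₂
    · subst hj2
      rw [Function.update_self, ← map_mul, Dc_ec, map_mul]
    · rw [Function.update_of_ne hj2, Function.update_of_ne hj]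
      exact comm_of_fix (hl j hj) ((hM j hj hj2).conj_Dc 1))
  rw [Function.update_of_ne h12.symm, Function.update_self] at c3
  have e3 : up σ (Dc 1) * up σ (Zc 3) * (up σ (Dc 1))⁻¹ * (up σ (Zc 3))⁻¹ = up σ (La0 F) := by
    rw [La0, map_mul, map_mul, map_mul, map_inv, map_inv]
  rw [e3] at c3
  -- the prime `ℓ`
  set y := up σ (La0 F) with hy
  set m := orderOf y with hm
  have hm0 : m ≠ 0 := (orderOf_pos y).ne'
  obtain ⟨l, hlp, hlm, hlne⟩ : ∃ l : ℕ, l.Prime ∧ l ∣ m ∧ l ≠ p := by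
    by_contra hcon
    push Not at hcon
    have h2 := Nat.eq_prime_pow_of_unique_prime_dvd hm0 (p := p) fun {d} hd hdm => hcon d hd hdm
    have h3 : La0 F ^ m = 1 := La0_order hG hσ (pow_orderOf_eq_one y)
    rw [h2] at h3
    exact La0_not_p hp3 _ h3
  set k := m / l with hk
  have hkl : k * l = m := Nat.div_mul_cancel hlm
  have hkm : k < m := Nat.div_lt_self (Nat.pos_of_ne_zero hm0) hlp.one_lt
  have hk0 : k ≠ 0 := by
    rintro h
    rw [h, zero_mul] at hkl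
    exact hm0 hkl.symm
  -- the long root rule
  have hq3 : polar (plusForm 4 F) (bs (.inr 2)) (c0 • bs (.inr 3)) = 0 := p_r23 c0
  refine H297.RC.box_LR hG hE hσ.rep (p := p) (ι := Option {j // j ≠ i₁ ∧ j ≠ i₂})
    (y := fun o => Option.elim o (y ^ k) fun j => x j)
    (M := fun o => Option.elim o (tg _ (La0 F ^ k)) fun j => M j)
    (r := fun o => Option.elim o l fun j => r j) ?_ ?_ ?_ ?_ ?_ ?_ q_r2 (w := c0 • bs (.inr 3)) ?_ hq3 ?_ ?_ ?_ ?_
  · rintro (_ | j)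
    · change Lf (up σ) (y ^ k) (tg _ (La0 F ^ k))
      rw [hy, ← map_pow]
      exact Lf.tg _
    · exact hl j j.2.1
  · rintro (_ | j)
    · exact hlp
    · exact hr j
  · rintro (_ | j)
    · exact hlne
    · exact hrp j j.2.1 j.2.2
  · rintro (_ | j)
    · change (y ^ k) ^ l = 1
      rw [← pow_mul, hkl]
      exact pow_orderOf_eq_one y
    · exact hx j
  · rintro (_ | j)
    · exact pow_ne_one_of_lt_orderOf hk0 hkm
    · exact hx1 j
  · have key : ∀ j : {j // j ≠ i₁ ∧ j ≠ i₂}, y ^ k * x j = x j * y ^ k := by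
      intro j
      have h2 : conjE _ (M j) (La0 F) = La0 F := by
        rw [La0, map_mul, map_mul, map_mul, map_inv, map_inv, (hM j j.2.1 j.2.2).conj_Dc,
          (hM j j.2.1 j.2.2).conj_Zc]
      have h3 : Commute y (x j) := comm_of_fix (hl j j.2.1) h2
      exact (h3.pow_left k).eq
    rintro (_ | i) (_ | j)
    · rfl
    · exact key j
    · exact (key i).symm
    · exact hc i j
  · rw [norm8]; simp
  · intro h
    have := congrFun h (.inr 2)
    simp at this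
  · intro a h
    have := congrFun h (.inr 3)
    simp at this
    exact hc0' this
  · rintro (_ | j) v hv
    · change ((La0 F ^ k : ↥(E (plusForm 4 F))) : V8 F ≃ₗ[F] V8 F) v ∈ _
      rw [mem_span hc0'] at hv
      obtain ⟨h0, h1, k0, k1, -, -⟩ := id hv
      rw [La0_H1 ⟨h0, h1, k0, k1⟩]
      exact (mem_span hc0').2 hv
    · rw [mem_span hc0'] at hv ⊢
      exact (hM j j.2.1 j.2.2).wr hv
  · intro ω
    obtain ⟨i, hi⟩ := c3 ω
    by_cases hi1 : i = i₁
    · subst hi1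
      rw [Function.update_self] at hi
      right
      refine ⟨none, ?_⟩
      change y ^ k • ω = ω
      have : y ∈ stabilizer G ω := hi
      exact (stabilizer G ω).pow_mem this k
    · rw [Function.update_of_ne hi1] at hi
      by_cases hi2 : i = i₂
      · subst hi2
        rw [Function.update_self] at hi
        left
        exact hi
      · rw [Function.update_of_ne hi2, Function.update_of_ne hi1] at hi
        right
        exact ⟨some ⟨i, hi1, hi2⟩, hi⟩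

end grp

end Cfsg.Agent.H237.RC.ID
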