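import Cfsg.Agent.H237.RC.E0

/-!
# S3510, orthogonal rows, even part: reduction of linear lifts to isometries

* `comm_lin` : linear lifts commute exactly;
* `lin_red` : linear lifts may be replaced by isometries `T i` with `T i ^ r i = 1`, if the boxes B, C, D are dead.
-/

set_option autoImplicit false
open Cfsg

namespace Cfsg.Agent.H237.RC

open QuadraticMap MulAction
open Cfsg.Agent.LieClassical.OrthCore Cfsg.Agent.LieClassical.OrthTrans
open Cfsg.Agent.LieClassical.OrthSimple Cfsg.Agent.ClassicalGeometry.OrthSemi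
open Cfsg.Agent.ClassicalGeometry.OrthAut1 Cfsg.Agent.H106.RC Cfsg.Agent.H93.RC

variable {F V : Type*} [Field F] [AddCommGroup V] [Module F V] {Q : QuadraticForm F V}

theorem comm_pow {X Y : V ≃ₗ[F] V} {a : F} (h : ∀ v, X (Y v) = a • Y (X v)) (n : ℕ) (v : V) :
    (X ^ n) (Y v) = a ^ n • Y ((X ^ n) v) := by
  induction n generalizing v with
  | zero => rw [pow_zero, pow_zero, one_smul]; rfl
  | succ n ih =>
    rw [pow_succ]
    show (X ^ n) (X (Y v)) = _ • Y ((X ^ n) (X v))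
    rw [h, map_smul, ih, smul_smul, pow_succ, mul_comm]

theorem root_of_comm {X Y : V ≃ₗ[F] V} {a μ : F} {r : ℕ} (h : ∀ v, X (Y v) = a • Y (X v))
    (hμ0 : μ ≠ 0) (hμ : ∀ v, (X ^ r) v = μ • v) {v : V} (hv : v ≠ 0) : a ^ r = 1 := by
  have h1 := comm_pow h r v
  rw [hμ, hμ, map_smul, smul_smul] at h1
  have h2 : Y v ≠ 0 := by
    rwa [Ne, LinearEquiv.map_eq_zero_iff]
  have h3 : μ = a ^ r * μ := smul_left_injective F h2 h1
  exact (mul_right_cancel₀ hμ0 (by rw [one_mul]; exact h3)).symm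

/-- linear lifts of commuting elements of different prime orders commute -/
theorem comm_lin (hG : Good Q) {M L : Gam Q} (hM : IsLin M) (hL : IsLin L) {r s : ℕ}
    (hrs : r.Coprime s) (hr : IsScal (M ^ r)) (hs : IsScal (L ^ s)) {a : F} (ha : a ≠ 0)
    (h : ∀ v, M.1 (L.1 v) = a • L.1 (M.1 v)) (v : V) : M.1 (L.1 v) = L.1 (M.1 v) := by
  obtain ⟨w, hw0, -⟩ := hG.sing
  obtain ⟨μ, hμ0, hμ⟩ := hr
  obtain ⟨ν, hν0, hν⟩ := hs
  have h1 : a ^ r = 1 := root_of_comm (X := linOf M hM) (Y := linOf L hL) h hμ0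
    (fun v => by rw [linOf_pow_apply, hμ]) hw0
  have h2 : (a⁻¹) ^ s = 1 := root_of_comm (X := linOf L hL) (Y := linOf M hM)
    (fun v => by
      show L.1 (M.1 v) = a⁻¹ • M.1 (L.1 v)
      rw [h, smul_smul, inv_mul_cancel₀ ha, one_smul]) hν0
    (fun v => by rw [linOf_pow_apply, hν]) hw0
  have h2' : a ^ s = 1 := by
    rw [inv_pow, inv_eq_one] at h2
    exact h2
  have h3 : a = 1 := by
    have h4 : orderOf a ∣ r := orderOf_dvd_of_pow_eq_one h1
    have h5 : orderOf a ∣ s := orderOf_dvd_of_pow_eq_one h2'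
    have h6 : orderOf a = 1 := Nat.eq_one_of_dvd_coprimes hrs h4 h5
    exact orderOf_eq_one_iff.1 h6
  rw [h, h3, one_smul]

/-- an isometry as a semisimilitude -/
def isoGam (T : V ≃ₗ[F] V) (hT : T ∈ O Q) : Gam Q :=
  ⟨T.toEquiv, RingEquiv.refl F, 1, one_ne_zero, fun u v => map_add T u v,
    fun a v => map_smul T a v, fun v => by rw [one_mul]; exact hT v⟩

theorem isoGam_apply (T : V ≃ₗ[F] V) (hT : T ∈ O Q) (v : V) : (isoGam T hT).1 v = T v := rfl

/-- scalar multiples induce the same automorphism -/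
theorem conjE_smul {M L : Gam Q} {a : F} (ha : a ≠ 0) (hL : IsLin L)
    (h : ∀ v, M.1 v = a • L.1 v) : conjE Q M = conjE Q L := by
  ext t v
  show (conjLin M t.1) v = (conjLin L t.1) v
  obtain ⟨w, rfl⟩ := L.1.surjective v
  have h1 : L.1 w = M.1 (a⁻¹ • w) := by
    rw [h, hL, smul_smul, mul_inv_cancel₀ ha, one_smul]
  rw [conjLin_apply', h1, conjLin_apply', map_smul, h, hL, smul_smul, mul_inv_cancel₀ ha, one_smul]

variable {G : Type*} [Group G]

theorem Lf_smul {ρ : ↥(E Q) →* G} {x : G} {M L : Gam Q} {a : F} (ha : a ≠ 0) (hL : IsLin L)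
    (h : ∀ v, M.1 v = a • L.1 v) (hl : Lf ρ x M) : Lf ρ x L := by
  intro t
  rw [hl t, conjE_smul ha hL h]

/-- the alternatives (1), (2) of `box_E0` are dead when the boxes B, C, D are -/
theorem alt_false {F V : Type*} [Field F] [AddCommGroup V] [Module F V] {Q : QuadraticForm F V}
    {p : ℕ} [CharP F p] {ι : Type*} {M : ι → Gam Q} {r : ι → ℕ} (hinj : Function.Injective r)
    (hlin : ∀ i, IsLin (M i)) (hcomm : ∀ i j v, (M i).1 ((M j).1 v) = (M j).1 ((M i).1 v))
    (hB : ∀ W W' : Submodule F V, IsCompl W W' → (∀ v ∈ W, Q v = 0) → (∀ v ∈ W', Q v = 0) →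
      (∀ i, ∀ v ∈ W, (M i).1 v ∈ W) → (∀ i, ∀ v ∈ W', (M i).1 v ∈ W') → False)
    (hC : ∀ (κ : V →ₗ[F] V) (s t : F), (∀ v, κ (κ v) = s • κ v - t • v) →
      (∀ a : F, a * a - s * a + t ≠ 0) → (∀ v, Q (κ v) = t * Q v) →
      (∀ i v, (M i).1 (κ v) = κ ((M i).1 v)) → False)
    (hD : ∀ (κ : V →ₗ[F] V) (s t : F), (∀ v, κ (κ v) = s • κ v - t • v) →
      (∀ a : F, a * a - s * a + t ≠ 0) → (∀ v w, polar Q (κ v) w = polar Q v (κ w)) →
      ((2 : F) = 0 → ∀ v, polar Q v (κ v) = 0) → (∀ i v, (M i).1 (κ v) = κ ((M i).1 v)) →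
      (∀ i, r i = 2 → ∃ a b : F, ∀ v, (M i).1 v = a • v + b • κ v) → False)
    {i₀ : ι} (hi₀ : r i₀ = 2) (hp2 : p ≠ 2) {c : F} (hc0 : c ≠ 0)
    (hc : ∀ v, (M i₀).1 ((M i₀).1 v) = c • v)
    (halt : (∀ v, Q ((M i₀).1 v) = -c * Q v) ∨ ((∀ v, Q ((M i₀).1 v) = c * Q v) ∧ ¬ IsSquare c)) :
    False := by
  have h2 : (2 : F) ≠ 0 := by
    intro h
    have h1 : ((2 : ℕ) : F) = 0 := by exact_mod_cast h
    rw [CharP.cast_eq_zero_iff F p] at h1
    rcases CharP.char_is_prime_or_zero F p with hp | hp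
    · exact hp2 ((Nat.prime_dvd_prime_iff_eq hp Nat.prime_two).1 h1)
    · subst hp
      norm_num at h1
  let κ : V →ₗ[F] V := (linOf (M i₀) (hlin i₀) : V →ₗ[F] V)
  have hκ : ∀ v, κ v = (M i₀).1 v := fun v => rfl
  have hκκ : ∀ v, κ (κ v) = (0 : F) • κ v - (-c) • v := by
    intro v
    rw [hκ, hκ, hc, zero_smul, neg_smul, zero_sub, neg_neg]
  have hκc : ∀ i v, (M i).1 (κ v) = κ ((M i).1 v) := fun i v => hcomm i i₀ v
  rcases halt with halt | ⟨halt, hns⟩
  · by_cases hsq : IsSquare c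
    · obtain ⟨a, ha⟩ := hsq
      have ha0 : a ≠ 0 := by
        rintro rfl
        exact hc0 (by rw [ha, mul_zero])
      have key : ∀ e : F, e * e = c → ∀ v ∈ LinearMap.ker (κ - e • LinearMap.id), Q v = 0 := by
        intro e he v hv
        rw [LinearMap.mem_ker, LinearMap.sub_apply, LinearMap.smul_apply, LinearMap.id_apply,
          sub_eq_zero, hκ] at hv
        have h3 := halt v
        rw [hv, QuadraticMap.map_smul, smul_eq_mul, he] at h3
        have h4 : 2 * (c * Q v) = 0 := by linear_combination h3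
        rcases mul_eq_zero.1 h4 with h5 | h5
        · exact (h2 h5).elim
        · exact (mul_eq_zero.1 h5).resolve_left hc0
      have kinv : ∀ e : F, ∀ i, ∀ v ∈ LinearMap.ker (κ - e • LinearMap.id),
          (M i).1 v ∈ LinearMap.ker (κ - e • LinearMap.id) := by
        intro e i v hv
        rw [LinearMap.mem_ker, LinearMap.sub_apply, LinearMap.smul_apply, LinearMap.id_apply,
          sub_eq_zero] at hv ⊢
        rw [← hκc, hv, hlin]
      refine hB (LinearMap.ker (κ - a • LinearMap.id)) (LinearMap.ker (κ - (-a) • LinearMap.id)) ?_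
        (key a ha.symm) (key (-a) (by rw [neg_mul_neg, ha])) (kinv a) (kinv (-a))
      constructor
      · rw [Submodule.disjoint_def]
        intro v hv hv'
        rw [LinearMap.mem_ker, LinearMap.sub_apply, LinearMap.smul_apply, LinearMap.id_apply,
          sub_eq_zero] at hv hv'
        rw [hv] at hv'
        have h3 : (2 * a) • v = 0 := by
          rw [neg_smul, eq_neg_iff_add_eq_zero, ← add_smul] at hv'
          rw [two_mul]
          exact hv'
        exact (smul_eq_zero.1 h3).resolve_left (mul_ne_zero h2 ha0)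
      · rw [codisjoint_iff, eq_top_iff]
        rintro v -
        rw [Submodule.mem_sup]
        refine ⟨(2 * a)⁻¹ • (κ v + a • v), ?_, (2 * a)⁻¹ • (a • v - κ v), ?_, ?_⟩
        · rw [LinearMap.mem_ker, LinearMap.sub_apply, LinearMap.smul_apply, LinearMap.id_apply,
            map_smul, map_add, map_smul, hκκ, ha]
          module
        · rw [LinearMap.mem_ker, LinearMap.sub_apply, LinearMap.smul_apply, LinearMap.id_apply,
            map_smul, map_sub, map_smul, hκκ, ha]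
          module
        · rw [← smul_add]
          have h3 : κ v + a • v + (a • v - κ v) = (2 * a) • v := by module
          rw [h3, smul_smul, inv_mul_cancel₀ (mul_ne_zero h2 ha0), one_smul]
    · refine hC κ 0 (-c) hκκ ?_ halt hκc
      intro a ha
      exact hsq ⟨a, by linear_combination -ha⟩
  · have hpol : ∀ v w, polar Q (κ v) (κ w) = c * polar Q v w := by
      intro v w
      rw [polar, polar, ← map_add, hκ, hκ, hκ, halt, halt, halt]
      ring
    refine hD κ 0 (-c) hκκ ?_ ?_ (fun h => (h2 h).elim) hκc ?_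
    · intro a ha
      exact hns ⟨a, by linear_combination -ha⟩
    · intro v w
      have h3 := hpol (κ v) w
      have h4 : κ (κ v) = c • v := by rw [hκ, hκ, hc]
      rw [h4, polar_smul_left, smul_eq_mul] at h3
      exact (mul_left_cancel₀ hc0 h3).symm
    · intro i hi
      refine ⟨0, 1, fun v => ?_⟩
      have : i = i₀ := hinj (by rw [hi, hi₀])
      rw [this, zero_smul, zero_add, one_smul, hκ]

/-- **Reduction of linear lifts to isometries.** -/
theorem lin_red {F V : Type*} [Field F] [Finite F] [AddCommGroup V] [Module F V]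
    {Q : QuadraticForm F V} (hG : Good Q) {Ω : Type*} [MulAction G Ω] {N : Subgroup G}
    {ρ : ↥(E Q) →* G} (hE : Env G Ω N) (hρ : Rep Q N ρ) {p : ℕ} [CharP F p] {ι : Type*}
    {x : ι → G} {M : ι → Gam Q} {r : ι → ℕ} (hl : ∀ i, Lf ρ (x i) (M i))
    (hlin : ∀ i, IsLin (M i)) (hx : PF x r)
    (hB : ∀ W W' : Submodule F V, IsCompl W W' → (∀ v ∈ W, Q v = 0) → (∀ v ∈ W', Q v = 0) →
      (∀ i, ∀ v ∈ W, (M i).1 v ∈ W) → (∀ i, ∀ v ∈ W', (M i).1 v ∈ W') → False)
    (hC : ∀ (κ : V →ₗ[F] V) (s t : F), (∀ v, κ (κ v) = s • κ v - t • v) →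
      (∀ a : F, a * a - s * a + t ≠ 0) → (∀ v, Q (κ v) = t * Q v) →
      (∀ i v, (M i).1 (κ v) = κ ((M i).1 v)) → False)
    (hD : ∀ (κ : V →ₗ[F] V) (s t : F), (∀ v, κ (κ v) = s • κ v - t • v) →
      (∀ a : F, a * a - s * a + t ≠ 0) → (∀ v w, polar Q (κ v) w = polar Q v (κ w)) →
      ((2 : F) = 0 → ∀ v, polar Q v (κ v) = 0) → (∀ i v, (M i).1 (κ v) = κ ((M i).1 v)) →
      (∀ i, r i = 2 → ∃ a b : F, ∀ v, (M i).1 v = a • v + b • κ v) → False) :
    ∃ (T : ι → V ≃ₗ[F] V) (M' : ι → Gam Q), (∀ i, T i ∈ O Q) ∧ (∀ i v, (M' i).1 v = T i v) ∧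
      (∀ i, T i ^ r i = 1) ∧ (∀ i j, T i * T j = T j * T i) ∧ (∀ i, Lf ρ (x i) (M' i)) ∧
      (∀ i, T i ≠ 1) ∧ ∀ i, ∃ v, T i v ≠ -v := by
  have hcommM : ∀ i j v, (M i).1 ((M j).1 v) = (M j).1 ((M i).1 v) := by
    intro i j v
    by_cases hij : i = j
    · rw [hij]
    · obtain ⟨a, ha, h1⟩ := (hl i).comm hG hρ (hl j) (hx.comm i j)
      exact comm_lin hG (hlin i) (hlin j)
        ((Nat.coprime_primes (hx.prime i) (hx.prime j)).2 fun h => hij (hx.inj h))
        ((hl i).pow_scal hG hρ (hx.pow i)) ((hl j).pow_scal hG hρ (hx.pow j)) ha h1 v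
  have key : ∀ i, ∃ (T : V ≃ₗ[F] V) (a : F), T ∈ O Q ∧ T ^ r i = 1 ∧ a ≠ 0 ∧
      ∀ v, (M i).1 v = a • T v := by
    intro i
    rcases box_E0 hG (p := p) (M i) (hlin i) (hx.prime i)
      ((hl i).pow_scal hG hρ (hx.pow i)) with h | ⟨hr, hp2, c, hc0, hc, halt⟩
    · exact h
    · exact (alt_false hx.inj hlin hcommM hB hC hD hr hp2 hc0 hc halt).elim
  choose T a hT hTr ha hM using key
  have hlf : ∀ i, Lf ρ (x i) (isoGam (T i) (hT i)) := by
    intro i
    exact Lf_smul (ha i) (fun b v => map_smul (T i) b v) (hM i) (hl i)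
  have hns : ∀ i, ¬ IsScal (isoGam (T i) (hT i)) := by
    intro i hs
    exact hx.ne i (((hlf i).eq_one_iff hG hE hρ).2 hs)
  refine ⟨T, fun i => isoGam (T i) (hT i), hT, fun i v => rfl, hTr, ?_, hlf, ?_, ?_⟩
  · intro i j
    ext v
    show T i (T j v) = T j (T i v)
    have h1 := hcommM i j v
    rw [hM i, hM j, map_smul, hM j ((M i).1 v), hM i v, map_smul, smul_smul, smul_smul,
      mul_comm (a j) (a i)] at h1
    exact smul_right_injective V (mul_ne_zero (ha i) (ha j)) h1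
  · intro i h1
    apply hns i
    refine ⟨1, one_ne_zero, fun v => ?_⟩
    rw [isoGam_apply, h1, one_smul]
    rfl
  · intro i
    by_contra h1
    push Not at h1
    apply hns i
    refine ⟨-1, neg_ne_zero.2 one_ne_zero, fun v => ?_⟩
    rw [isoGam_apply, h1, neg_smul, one_smul]

end Cfsg.Agent.H237.RC
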