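import Cfsg.Agent.H911.RC.KpThree

/-!
# S3510, triality: a composition plane from a fixed vector with nonzero discriminant (helper237)
-/

set_option autoImplicit false

namespace Cfsg.Agent.H237.RC.TP

open Module QuadraticMap Cfsg.Agent.LieClassical.OrthCore Cfsg.Agent.LieClassical.OrthTrans
  Cfsg.Agent.LieClassical.OrthSimple Cfsg.Agent.ClassicalGeometry.OrthAut1
  Cfsg.Agent.ClassicalGeometry.OrthSemi Cfsg.Agent.H198.Classes
  Cfsg.Agent.LieClassical.QuadForms Cfsg.Agent.H198.ClassesPlus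
  Cfsg.Agent.ClassicalGeometry.TrialityOct Cfsg.Agent.ClassicalGeometry.Triality
  Cfsg.Agent.ClassicalGeometry.TrialitySpaces Cfsg.Agent.H198.TriBase Cfsg.Agent.H198.TriAut
  Cfsg.Agent.H198.TriDia Cfsg.Agent.H198.TriTC Cfsg.Agent.H198.TwComp
open Cfsg.Agent.H566.RC (Au Kp)

universe u

variable {F : Type u} [Field F]

theorem au_tauB : Au (tauB F) := ⟨tri_tauB, isLin_tauB, tauB_pow_three⟩

theorem polar_pl {τ : G8 F} (h : Au τ) (a : V8 F) (x y x' y' : F) :
    polar (plusForm 4 F) (x • a + y • dia τ a a) (x' • a + y' • dia τ a a) =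
      2 * x * x' * plusForm 4 F a + (x * y' + y * x') * polar (plusForm 4 F) a (dia τ a a) +
        2 * y * y' * plusForm 4 F a ^ 2 := by
  have e : (x • a + y • dia τ a a) + (x' • a + y' • dia τ a a) = (x + x') • a + (y + y') • dia τ a a := by module
  rw [QuadraticMap.polar, e, H911.RC.Q_plane h, H911.RC.Q_plane h, H911.RC.Q_plane h]
  ring

/-- **BOX PAIR** -/
theorem pair [Finite F] {τ : G8 F} (h : Au τ) (hq : 4 ≤ Nat.card F) {a : V8 F}
    (ht : 4 * plusForm 4 F a ^ 3 ≠ polar (plusForm 4 F) a (dia τ a a) ^ 2) :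
    ∃ x y x' y' : F, Kp τ (x • a + y • dia τ a a) (x' • a + y' • dia τ a a) := by
  classical
  have := Fintype.ofFinite F
  by_cases ha : plusForm 4 F a = 0
  swap
  · obtain ⟨x, y, hk⟩ := H911.RC.exists_Kp_plane h ha (Ne.symm ht) (Or.inl hq)
    exact ⟨1, 0, x, y, by rwa [one_smul, zero_smul, add_zero]⟩
  have ht0 : polar (plusForm 4 F) a (dia τ a a) ≠ 0 := by
    intro h0
    apply ht
    rw [ha, h0]
    ring
  obtain ⟨l, hl⟩ : ∃ l : F, l ∉ ({0, 1, -1} : Finset F) := by
    by_contra hcon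
    push Not at hcon
    have h1 : (Finset.univ : Finset F) ⊆ {0, 1, -1} := fun x _ => hcon x
    have h2 := Finset.card_le_card h1
    have h3 : ({0, 1, -1} : Finset F).card ≤ 3 := Finset.card_le_three
    rw [Finset.card_univ, ← Nat.card_eq_fintype_card] at h2
    omega
  simp only [Finset.mem_insert, Finset.mem_singleton, not_or] at hl
  obtain ⟨hl0, hl1, hl2⟩ := hl
  obtain ⟨m, hm⟩ : ∃ m : F, l * m = 1 := ⟨l⁻¹, mul_inv_cancel₀ hl0⟩
  have hd : m - l ≠ 0 := by
    intro h0
    have h1 : (l - 1) * (l + 1) = 0 := by linear_combination hm - l * h0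
    rcases mul_eq_zero.1 h1 with h2 | h2
    · exact hl1 (sub_eq_zero.1 h2)
    · exact hl2 (eq_neg_of_add_eq_zero_left h2)
  obtain ⟨d, hd'⟩ : ∃ d : F, (m - l) * d = 1 := ⟨(m - l)⁻¹, mul_inv_cancel₀ hd⟩
  have key : ∀ x y : F, ∃ α β : F, x • a + y • dia τ a a =
      α • ((1 : F) • a + (1 : F) • dia τ a a) + β • (l • a + m • dia τ a a) := by
    intro x y
    refine ⟨(x * m - y * l) * d, (y - x) * d, ?_⟩
    have e1 : ((x * m - y * l) * d) + ((y - x) * d) * l = x := by linear_combination x * hd'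
    have e2 : ((x * m - y * l) * d) + ((y - x) * d) * m = y := by linear_combination y * hd'
    calc x • a + y • dia τ a a = (((x * m - y * l) * d) + ((y - x) * d) * l) • a +
        (((x * m - y * l) * d) + ((y - x) * d) * m) • dia τ a a := by rw [e1, e2]
      _ = _ := by module
  refine ⟨1, 1, l, m, ?_, ?_, ?_, ?_, ?_, ?_, ?_⟩
  · rw [H911.RC.Q_plane h, H911.RC.Q_plane h, ha]
    linear_combination polar (plusForm 4 F) a (dia τ a a) * hm
  · rw [H911.RC.Q_plane h, ha]
    intro h0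
    exact ht0 (by linear_combination h0)
  · rw [H911.RC.Q_plane h, polar_pl h, ha]
    intro h0
    have h1 : (polar (plusForm 4 F) a (dia τ a a) * (m - l)) ^ 2 = 0 := by
      linear_combination h0 - 4 * (polar (plusForm 4 F) a (dia τ a a)) ^ 2 * hm
    exact mul_ne_zero ht0 hd (pow_eq_zero_iff (two_ne_zero) |>.1 h1)
  · rw [H911.RC.prod_plane h, H911.RC.prod_plane h]
    module
  · rw [H911.RC.prod_plane h]
    exact key _ _
  · rw [H911.RC.prod_plane h]
    exact key _ _
  · rw [H911.RC.prod_plane h]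
    exact key _ _

end Cfsg.Agent.H237.RC.TP
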